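import Groth.Prelude.Def_W4c3perfectstacksMV
import Groth.Agent.CompactLib.Basic
import Mathlib

/-!
Mayer–Vietoris squares of triangulated categories: the Mayer–Vietoris triangle (existence, uniqueness,
naturality), morphisms out of objects supported on the closed part, glueing, and compactness.
-/

universe v u
open CategoryTheory CategoryTheory.Limits CategoryTheory.Pretriangulated

namespace MVLib

variable {S S' R R' : Type u} [Category.{v} S] [Category.{v} S'] [Category.{v} R] [Category.{v} R']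
  [Preadditive S] [Preadditive S'] [Preadditive R] [Preadditive R']
  [HasZeroObject S] [HasZeroObject S'] [HasZeroObject R] [HasZeroObject R']
  [HasShift S ℤ] [HasShift S' ℤ] [HasShift R ℤ] [HasShift R' ℤ]
  [∀ n : ℤ, (shiftFunctor S n).Additive] [∀ n : ℤ, (shiftFunctor S' n).Additive]
  [∀ n : ℤ, (shiftFunctor R n).Additive] [∀ n : ℤ, (shiftFunctor R' n).Additive]
  [Pretriangulated S] [Pretriangulated S'] [Pretriangulated R] [Pretriangulated R']
  [IsTriangulated S] [IsTriangulated S'] [IsTriangulated R] [IsTriangulated R']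
  (q : W4c3perfectstacks.MVSq S S' R R')
  [q.jst.CommShift ℤ] [q.fst.CommShift ℤ] [q.jpst.CommShift ℤ] [q.gst.CommShift ℤ]
  [q.jst.IsTriangulated] [q.fst.IsTriangulated] [q.jpst.IsTriangulated] [q.gst.IsTriangulated]

/-- The MV first map. -/
noncomputable abbrev fstMap (N : S) :
    N ⟶ q.jls.obj (q.jst.obj N) ⊞ q.fls.obj (q.fst.obj N) :=
  biprod.lift (q.adjJ.unit.app N) (q.adjF.unit.app N)

/-- The object `f_* f^* j_* P`. -/
abbrev D (P : R) : S := q.fls.obj (q.fst.obj (q.jls.obj P))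

/-- The MV second map. -/
noncomputable abbrev sndMap (N : S) :
    q.jls.obj (q.jst.obj N) ⊞ q.fls.obj (q.fst.obj N) ⟶ D q (q.jst.obj N) :=
  biprod.desc (q.adjF.unit.app (q.jls.obj (q.jst.obj N)))
    (-(q.fls.map (q.fst.map (q.adjJ.unit.app N))))

variable {q}

/-- The transpose `X ⟶ D P` to `j'^* f^* X ⟶ g^* P`. -/
noncomputable def transpose {P : R} {X : S} (h : X ⟶ D q P) :
    q.jpst.obj (q.fst.obj X) ⟶ q.gst.obj P :=
  (q.adjJp.homEquiv _ _).symm ((q.adjF.homEquiv _ _).symm h ≫ q.bc2App P)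

omit [HasZeroObject S] [HasZeroObject S'] [HasZeroObject R] [HasZeroObject R']
  [HasShift S ℤ] [HasShift S' ℤ] [HasShift R ℤ] [HasShift R' ℤ]
  [∀ n : ℤ, (shiftFunctor S n).Additive] [∀ n : ℤ, (shiftFunctor S' n).Additive]
  [∀ n : ℤ, (shiftFunctor R n).Additive] [∀ n : ℤ, (shiftFunctor R' n).Additive]
  [Pretriangulated S] [Pretriangulated S'] [Pretriangulated R] [Pretriangulated R']
  [IsTriangulated S] [IsTriangulated S'] [IsTriangulated R] [IsTriangulated R']
  [q.jst.CommShift ℤ] [q.fst.CommShift ℤ] [q.jpst.CommShift ℤ] [q.gst.CommShift ℤ]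
  [q.jst.IsTriangulated] [q.fst.IsTriangulated] [q.jpst.IsTriangulated] [q.gst.IsTriangulated] in
lemma bc2_naturality {P P' : R} (c : P ⟶ P') :
    q.fst.map (q.jls.map c) ≫ q.bc2App P' = q.bc2App P ≫ q.jpls.map (q.gst.map c) := by
  have he : q.gst.map (q.jst.map (q.jls.map c)) ≫ q.gst.map (q.adjJ.counit.app P') =
      q.gst.map (q.adjJ.counit.app P) ≫ q.gst.map c := by
    rw [← Functor.map_comp, ← Functor.map_comp]
    exact congrArg _ (q.adjJ.counit.naturality c)
  simp only [W4c3perfectstacks.MVSq.bc2App, Category.assoc]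
  rw [← Functor.map_comp, ← Functor.map_comp, ← Functor.map_comp, ← Functor.map_comp,
    ← q.adjJp.unit_naturality_assoc]
  congr 1
  rw [← Functor.map_comp]
  congr 1
  have hn := q.e.inv.naturality (q.jls.map c)
  dsimp at hn
  rw [reassoc_of% hn, he]
  simp

omit [HasZeroObject S] [HasZeroObject S'] [HasZeroObject R] [HasZeroObject R']
  [HasShift S ℤ] [HasShift S' ℤ] [HasShift R ℤ] [HasShift R' ℤ]
  [∀ n : ℤ, (shiftFunctor S n).Additive] [∀ n : ℤ, (shiftFunctor S' n).Additive]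
  [∀ n : ℤ, (shiftFunctor R n).Additive] [∀ n : ℤ, (shiftFunctor R' n).Additive]
  [Pretriangulated S] [Pretriangulated S'] [Pretriangulated R] [Pretriangulated R']
  [IsTriangulated S] [IsTriangulated S'] [IsTriangulated R] [IsTriangulated R']
  [q.jst.CommShift ℤ] [q.fst.CommShift ℤ] [q.jpst.CommShift ℤ] [q.gst.CommShift ℤ]
  [q.jst.IsTriangulated] [q.fst.IsTriangulated] [q.jpst.IsTriangulated] [q.gst.IsTriangulated] in
lemma bc_naturality {M M' : S'} (c : M ⟶ M') :
    q.jst.map (q.fls.map c) ≫ q.bcApp M' = q.bcApp M ≫ q.gls.map (q.jpst.map c) := by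
  have he : q.jpst.map (q.fst.map (q.fls.map c)) ≫ q.jpst.map (q.adjF.counit.app M') =
      q.jpst.map (q.adjF.counit.app M) ≫ q.jpst.map c := by
    rw [← Functor.map_comp, ← Functor.map_comp]
    exact congrArg _ (q.adjF.counit.naturality c)
  simp only [W4c3perfectstacks.MVSq.bcApp, Category.assoc]
  rw [← Functor.map_comp, ← Functor.map_comp, ← Functor.map_comp,
    ← q.adjG.unit_naturality_assoc]
  congr 1
  rw [← Functor.map_comp]
  congr 1
  have hn := q.e.hom.naturality (q.fls.map c)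
  dsimp at hn
  rw [reassoc_of% hn, he]

variable (hq : q.IsMV)
include hq

lemma transpose_comp {P P' : R} {X : S} (h : X ⟶ D q P) (c : P ⟶ P') :
    transpose (h ≫ q.fls.map (q.fst.map (q.jls.map c))) = transpose h ≫ q.gst.map c := by
  have := hq
  rw [transpose, transpose, Adjunction.homEquiv_naturality_right_symm, Category.assoc,
    bc2_naturality, ← Category.assoc, Adjunction.homEquiv_naturality_right_symm]

lemma transpose_injective {P : R} {X : S} :
    Function.Injective (transpose : (X ⟶ D q P) → _) := by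
  intro h h' e
  have := hq.isIso_bc2App P
  exact (q.adjF.homEquiv _ _).symm.injective
    ((cancel_mono (q.bc2App P)).1 ((q.adjJp.homEquiv _ _).symm.injective e))

lemma hom_D_eq_zero {X : S} (hX : IsZero (q.jst.obj X)) {P : R} (x : X ⟶ D q P) : x = 0 := by
  apply transpose_injective hq
  exact ((q.gst.map_isZero hX).of_iso (q.e.app X).symm).eq_of_src _ _

omit hq in
lemma hom_J_eq_zero {X : S} (hX : IsZero (q.jst.obj X)) {P : R} (x : X ⟶ q.jls.obj P) : x = 0 :=
  (q.adjJ.homEquiv _ _).symm.injective (hX.eq_of_src _ _)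

omit hq in
lemma isZero_jst_shift {X : S} (hX : IsZero (q.jst.obj X)) (n : ℤ) :
    IsZero (q.jst.obj (X⟦n⟧)) :=
  ((shiftFunctor R n).map_isZero hX).of_iso ((q.jst.commShiftIso n).app X)

lemma isIso_jst_map_unit (N : S) : IsIso (q.jst.map (q.adjJ.unit.app N)) := by
  have := hq.isIso_counitJ
  have h : IsIso (q.jst.map (q.adjJ.unit.app N) ≫ q.adjJ.counit.app (q.jst.obj N)) := by
    rw [q.adjJ.left_triangle_components N]
    exact IsIso.id _
  exact IsIso.of_isIso_comp_right _ (q.adjJ.counit.app (q.jst.obj N))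

/-- The cone of the unit of `j` is killed by `j^*`. -/
lemma exists_cone (N : S) :
    ∃ (C : S) (v : q.jls.obj (q.jst.obj N) ⟶ C) (w : C ⟶ N⟦(1 : ℤ)⟧),
      Triangle.mk (q.adjJ.unit.app N) v w ∈ distTriang S ∧ IsZero (q.jst.obj C) := by
  obtain ⟨C, v, w, h⟩ := distinguished_cocone_triangle (q.adjJ.unit.app N)
  exact ⟨C, v, w, h, Triangle.isZero₃_of_isIso₁ _ (q.jst.map_distinguished _ h)
    (isIso_jst_map_unit hq N)⟩

/-- Maps out of `f_* f^* j_* j^* N` into some `f_* f^* j_* P` are determined on `f_* f^* N`. -/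
lemma hom_ext_D {N : S} {P : R} (x y : D q (q.jst.obj N) ⟶ D q P)
    (h : q.fls.map (q.fst.map (q.adjJ.unit.app N)) ≫ x =
      q.fls.map (q.fst.map (q.adjJ.unit.app N)) ≫ y) : x = y := by
  let _ := q.adjF.rightAdjointCommShift ℤ
  have := q.adjF.commShift_of_leftAdjoint ℤ
  have : q.fls.IsTriangulated := q.adjF.isTriangulated_rightAdjoint
  obtain ⟨C, v, w, hT, hC⟩ := exists_cone hq N
  obtain ⟨g, hg⟩ : ∃ g : q.fls.obj (q.fst.obj C) ⟶ D q P,
      x - y = q.fls.map (q.fst.map v) ≫ g :=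
    Triangle.yoneda_exact₂ _ (q.fls.map_distinguished _ (q.fst.map_distinguished _ hT)) (x - y)
      (by show q.fls.map (q.fst.map (q.adjJ.unit.app N)) ≫ (x - y) = 0
          rw [Preadditive.comp_sub, h, sub_self])
  have := hq.isIso_unitF C hC
  have hg0 : g = 0 := (cancel_epi (q.adjF.unit.app C)).1
    (by rw [hom_D_eq_zero hq hC (q.adjF.unit.app C ≫ g), comp_zero])
  rw [← sub_eq_zero, hg, hg0, comp_zero]

/-- Existence of the Mayer–Vietoris triangle. -/
theorem exists_triangle (N : S) :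
    ∃ d : D q (q.jst.obj N) ⟶ N⟦(1 : ℤ)⟧,
      Triangle.mk (fstMap q N) (sndMap q N) d ∈ distTriang S := by
  let _ := q.adjF.rightAdjointCommShift ℤ
  have := q.adjF.commShift_of_leftAdjoint ℤ
  have : q.fls.IsTriangulated := q.adjF.isTriangulated_rightAdjoint
  obtain ⟨C, v, w, hT, hC⟩ := exists_cone hq N
  have := hq.isIso_unitF C hC
  let A := q.jls.obj (q.jst.obj N)
  let B := q.fls.obj (q.fst.obj N)
  obtain ⟨Q, c, e, hQ⟩ := distinguished_cocone_triangle (fstMap q N)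
  have h₀ : Triangle.mk (biprod.inr : B ⟶ A ⊞ B) biprod.fst 0 ∈ distTriang S := by
    refine isomorphic_distinguished _ (binaryBiproductTriangle_distinguished B A) _ ?_
    exact Triangle.isoMk _ _ (Iso.refl B) (biprod.braiding A B) (Iso.refl A)
      (by show (biprod.inr : B ⟶ A ⊞ B) ≫ (biprod.braiding A B).hom = 𝟙 B ≫ biprod.inl
          ext <;> simp)
      (by show (biprod.fst : A ⊞ B ⟶ A) ≫ 𝟙 A = (biprod.braiding A B).hom ≫ biprod.snd
          simp)
      (zero_comp.trans comp_zero.symm)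
  have h₂₃ := rot_of_distTriang _ h₀
  let o := Triangulated.someOctahedron (biprod.lift_fst (q.adjJ.unit.app N) (q.adjF.unit.app N))
    hQ h₂₃ hT
  let G := q.fst ⋙ q.fls
  let TF := G.mapTriangle.obj (Triangle.mk (q.adjJ.unit.app N) v w)
  have hTF : TF ∈ distTriang S := G.map_distinguished _ hT
  let m₃ : C ⟶ B⟦(1 : ℤ)⟧ := o.m₃
  have hm₃ : w ≫ (q.adjF.unit.app N)⟦(1 : ℤ)⟧' = -m₃ := by
    have h : w ≫ (fstMap q N)⟦(1 : ℤ)⟧' =
        m₃ ≫ (-((biprod.inr : B ⟶ A ⊞ B)⟦(1 : ℤ)⟧')) := o.comm₄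
    have h1 : (fstMap q N)⟦(1 : ℤ)⟧' ≫ ((biprod.snd : A ⊞ B ⟶ B)⟦(1 : ℤ)⟧') =
        (q.adjF.unit.app N)⟦(1 : ℤ)⟧' :=
      ((shiftFunctor S (1 : ℤ)).map_comp _ _).symm.trans (congrArg _ (biprod.lift_snd _ _))
    have h2 : ((biprod.inr : B ⟶ A ⊞ B)⟦(1 : ℤ)⟧') ≫ ((biprod.snd : A ⊞ B ⟶ B)⟦(1 : ℤ)⟧') =
        𝟙 (B⟦(1 : ℤ)⟧) := by
      rw [← Functor.map_comp, biprod.inr_snd, CategoryTheory.Functor.map_id]
    refine ((w ≫= h1).symm.trans ((Category.assoc _ _ _).symm.trans (h =≫ _))).trans ?_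
    rw [Category.assoc, Preadditive.neg_comp, h2, Preadditive.comp_neg, Category.comp_id]
  have hu : q.adjF.unit.app C ≫ TF.mor₃ = w ≫ (q.adjF.unit.app N)⟦(1 : ℤ)⟧' :=
    ((Category.assoc _ _ _).symm.trans ((q.adjF.unit.naturality w).symm =≫ _)).trans
      ((Category.assoc _ _ _).trans
        (w ≫= Adjunction.unit_app_commShiftIso_hom_app q.adjF ℤ (1 : ℤ) N))
  let T₁ := Triangle.mk o.m₁ o.m₃ ((-((biprod.inr : B ⟶ A ⊞ B)⟦(1 : ℤ)⟧')) ≫ c⟦(1 : ℤ)⟧')
  have hT₁ : T₁ ∈ distTriang S := o.mem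
  have hT₂ : TF.rotate ∈ distTriang S := rot_of_distTriang _ hTF
  obtain ⟨θ, hθ₁, hθ₃⟩ := complete_distinguished_triangle_morphism₁ T₁ TF.rotate hT₁ hT₂
    (q.adjF.unit.app C) (-𝟙 _) (by
      show o.m₃ ≫ (-𝟙 _) = q.adjF.unit.app C ≫ TF.mor₃
      rw [hu, hm₃]
      simp [m₃] <;> rfl)
  let θ' : Q ⟶ D q (q.jst.obj N) := θ
  have : IsIso θ' := isIso₁_of_isIso₂₃ (Triangle.homMk T₁ TF.rotate θ (q.adjF.unit.app C) (-𝟙 _)
    hθ₁ (by
      show o.m₃ ≫ (-𝟙 _) = q.adjF.unit.app C ≫ TF.mor₃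
      rw [hu, hm₃]
      simp [m₃] <;> rfl) hθ₃) hT₁ hT₂
    (by show IsIso (q.adjF.unit.app C); infer_instance)
    (by show IsIso (-𝟙 ((q.fls.obj (q.fst.obj N))⟦(1 : ℤ)⟧)); exact ⟨-𝟙 _, by simp, by simp⟩)
  have hinr : (biprod.inr : B ⟶ A ⊞ B) ≫ c ≫ θ' =
      -(q.fls.map (q.fst.map (q.adjJ.unit.app N))) := by
    apply (shiftFunctor S (1 : ℤ)).map_injective
    have h : ((-((biprod.inr : B ⟶ A ⊞ B)⟦(1 : ℤ)⟧')) ≫ c⟦(1 : ℤ)⟧') ≫ θ'⟦(1 : ℤ)⟧' =
        (-𝟙 _) ≫ (-((q.fls.map (q.fst.map (q.adjJ.unit.app N)))⟦(1 : ℤ)⟧')) := hθ₃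
    simp only [Preadditive.neg_comp, Preadditive.comp_neg, Category.id_comp, Category.assoc,
      neg_neg] at h
    rw [Functor.map_neg, Functor.map_comp, Functor.map_comp, ← h, neg_neg]
  let ηA : A ⟶ D q (q.jst.obj N) := q.adjF.unit.app A
  have hinl : (biprod.inl : A ⟶ A ⊞ B) ≫ c ≫ θ' = ηA := by
    have h0 : fstMap q N ≫ c ≫ θ' = 0 := by
      have h : fstMap q N ≫ c = 0 := comp_distTriang_mor_zero₁₂ _ hQ
      rw [reassoc_of% h, zero_comp]
    have h1 : q.adjJ.unit.app N ≫ ((biprod.inl : A ⟶ A ⊞ B) ≫ c ≫ θ' - ηA) = 0 := by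
      rw [fstMap, biprod.lift_eq, Preadditive.add_comp, Category.assoc, Category.assoc, hinr,
        Preadditive.comp_neg] at h0
      have hn : q.adjJ.unit.app N ≫ ηA =
          q.adjF.unit.app N ≫ q.fls.map (q.fst.map (q.adjJ.unit.app N)) :=
        q.adjF.unit.naturality (q.adjJ.unit.app N)
      rw [Preadditive.comp_sub, hn, sub_eq_add_neg]
      exact h0
    obtain ⟨g, hg⟩ : ∃ g : C ⟶ D q (q.jst.obj N),
        (biprod.inl : A ⟶ A ⊞ B) ≫ c ≫ θ' - ηA = v ≫ g :=
      Triangle.yoneda_exact₂ _ hT _ h1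
    rw [← sub_eq_zero, hg, hom_D_eq_zero hq hC g, comp_zero]
  refine ⟨inv θ' ≫ e, isomorphic_distinguished _ hQ _ ?_⟩
  exact Triangle.isoMk _ _ (Iso.refl N) (Iso.refl (A ⊞ B)) (asIso θ').symm
    ((Category.comp_id _).trans (Category.id_comp _).symm)
    (by
      have hsnd : sndMap q N = c ≫ θ' := by
        ext
        · simpa using hinl.symm
        · simpa using hinr.symm
      show sndMap q N ≫ inv θ' = 𝟙 (A ⊞ B) ≫ c
      rw [hsnd, Category.assoc, IsIso.hom_inv_id, Category.comp_id, Category.id_comp])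
    (by
      show (inv θ' ≫ e) ≫ (𝟙 N)⟦(1 : ℤ)⟧' = inv θ' ≫ e
      rw [CategoryTheory.Functor.map_id, Category.comp_id])

/-- Uniqueness of the connecting map, and its naturality. -/
theorem naturality {N₁ N₂ : S} (φ : N₁ ⟶ N₂)
    (d₁ : D q (q.jst.obj N₁) ⟶ N₁⟦(1 : ℤ)⟧) (d₂ : D q (q.jst.obj N₂) ⟶ N₂⟦(1 : ℤ)⟧)
    (h₁ : Triangle.mk (fstMap q N₁) (sndMap q N₁) d₁ ∈ distTriang S)
    (h₂ : Triangle.mk (fstMap q N₂) (sndMap q N₂) d₂ ∈ distTriang S) :
    d₁ ≫ φ⟦(1 : ℤ)⟧' = q.fls.map (q.fst.map (q.jls.map (q.jst.map φ))) ≫ d₂ := by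
  obtain ⟨h, hh₁, hh₂⟩ := complete_distinguished_triangle_morphism _ _ h₁ h₂ φ
    (biprod.map (q.jls.map (q.jst.map φ)) (q.fls.map (q.fst.map φ))) (by
      show fstMap q N₁ ≫ _ = φ ≫ fstMap q N₂
      ext
      · rw [Category.assoc, biprod.map_fst, biprod.lift_fst_assoc, Category.assoc, biprod.lift_fst]
        exact q.adjJ.unit_naturality φ
      · rw [Category.assoc, biprod.map_snd, biprod.lift_snd_assoc, Category.assoc, biprod.lift_snd]
        exact q.adjF.unit_naturality φ)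
  let h' : D q (q.jst.obj N₁) ⟶ D q (q.jst.obj N₂) := h
  have hh : h' = q.fls.map (q.fst.map (q.jls.map (q.jst.map φ))) := by
    apply hom_ext_D hq
    have h1 : biprod.inr ≫ sndMap q N₁ ≫ h' = biprod.inr ≫
        biprod.map (q.jls.map (q.jst.map φ)) (q.fls.map (q.fst.map φ)) ≫ sndMap q N₂ :=
      biprod.inr ≫= hh₁
    rw [biprod.inr_desc_assoc, biprod.inr_map_assoc, biprod.inr_desc, Preadditive.neg_comp,
      Preadditive.comp_neg, neg_inj] at h1
    rw [h1, ← Functor.map_comp, ← Functor.map_comp, ← Functor.map_comp, ← Functor.map_comp]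
    exact congrArg _ (congrArg _ (q.adjJ.unit.naturality φ))
  rw [← hh]
  exact hh₂

theorem existsUnique (N : S) : ∃! d : D q (q.jst.obj N) ⟶ N⟦(1 : ℤ)⟧,
    Triangle.mk (fstMap q N) (sndMap q N) d ∈ distTriang S := by
  obtain ⟨d, hd⟩ := exists_triangle hq N
  exact ⟨d, hd, fun d' hd' => by simpa using naturality hq (𝟙 N) d' d hd' hd⟩

/-- Morphisms out of `f_* M` for `M` killed by `j'^*`. -/
theorem map_bijective (M : S') (hM : IsZero (q.jpst.obj M)) (N : S) :
    Function.Bijective (fun g : q.fls.obj M ⟶ N => q.fst.map g) := by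
  set X := q.fls.obj M
  have hX : IsZero (q.jst.obj X) := by
    have := hq.isIso_bcApp M
    have hG : IsZero (q.gls.obj (q.jpst.obj M)) := by
      have := q.adjG.right_adjoint_additive
      exact q.gls.map_isZero hM
    exact hG.of_iso (asIso (q.bcApp M))
  obtain ⟨d, hd⟩ := exists_triangle hq N
  constructor
  · intro g₁ g₂ hg
    have hz : (g₁ - g₂) ≫ fstMap q N = 0 := by
      ext
      · simp [hom_J_eq_zero hX]
      · simp only [Category.assoc, biprod.lift_snd, zero_comp, Preadditive.sub_comp, sub_eq_zero,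
          ← q.adjF.unit_naturality]
        exact congrArg (fun t => q.adjF.unit.app X ≫ q.fls.map t) hg
    have hz' : (g₁ - g₂)⟦(1 : ℤ)⟧' ≫ (fstMap q N)⟦(1 : ℤ)⟧' = 0 := by
      rw [← Functor.map_comp, hz, Functor.map_zero]
    obtain ⟨k, hk⟩ : ∃ k : X⟦(1 : ℤ)⟧ ⟶ D q (q.jst.obj N), (g₁ - g₂)⟦(1 : ℤ)⟧' = k ≫ d :=
      Triangle.coyoneda_exact₁ _ hd _ hz'
    rw [hom_D_eq_zero hq (isZero_jst_shift hX 1) k, zero_comp] at hk
    exact sub_eq_zero.1 ((shiftFunctor S (1 : ℤ)).map_injective (by rw [hk, Functor.map_zero]))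
  · intro y
    let x : X ⟶ q.jls.obj (q.jst.obj N) ⊞ q.fls.obj (q.fst.obj N) :=
      biprod.lift 0 (q.adjF.unit.app X ≫ q.fls.map y)
    obtain ⟨g, hg⟩ : ∃ g : X ⟶ N, x = g ≫ fstMap q N :=
      Triangle.coyoneda_exact₂ _ hd x (hom_D_eq_zero hq hX _)
    refine ⟨g, (q.adjF.homEquiv _ _).injective ?_⟩
    have := congrArg (· ≫ biprod.snd) hg
    simp only [x, biprod.lift_snd, Category.assoc, ← q.adjF.unit_naturality] at this
    simp only [Adjunction.homEquiv_unit]
    exact this.symm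

/-- Glueing. -/
theorem glue (NU : R) (N' : S') (δ : q.jpst.obj N' ≅ q.gst.obj NU) (N : S)
    (a : N ⟶ q.jls.obj NU ⊞ q.fls.obj N')
    (d : q.fls.obj (q.jpls.obj (q.gst.obj NU)) ⟶ N⟦(1 : ℤ)⟧)
    (hT : Triangle.mk a (biprod.desc (q.adjF.unit.app (q.jls.obj NU) ≫ q.fls.map (q.bc2App NU))
      (-(q.fls.map (q.adjJp.unit.app N' ≫ q.jpls.map δ.hom)))) d ∈ distTriang S) :
    IsIso ((q.adjJ.homEquiv N NU).symm (a ≫ biprod.fst)) ∧
      IsIso ((q.adjF.homEquiv N N').symm (a ≫ biprod.snd)) := by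
  let _ := q.adjF.rightAdjointCommShift ℤ
  have := q.adjF.commShift_of_leftAdjoint ℤ
  have : q.fls.IsTriangulated := q.adjF.isTriangulated_rightAdjoint
  have := hq.isIso_counitJ
  have := hq.isIso_counitJp
  have := hq.isIso_bc2App NU
  let b : q.jls.obj NU ⊞ q.fls.obj N' ⟶ q.fls.obj (q.jpls.obj (q.gst.obj NU)) := biprod.desc (q.adjF.unit.app (q.jls.obj NU) ≫ q.fls.map (q.bc2App NU))
      (-(q.fls.map (q.adjJp.unit.app N' ≫ q.jpls.map δ.hom)))
  let k : N' ⟶ q.jpls.obj (q.gst.obj NU) := q.adjJp.unit.app N' ≫ q.jpls.map δ.hom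
  have hk : IsIso (q.jpst.map k) := by
    have h : IsIso (q.jpst.map (q.adjJp.unit.app N') ≫ q.adjJp.counit.app (q.jpst.obj N')) := by
      rw [q.adjJp.left_triangle_components N']
      exact IsIso.id _
    have h1 : IsIso (q.jpst.map (q.adjJp.unit.app N')) :=
      IsIso.of_isIso_comp_right _ (q.adjJp.counit.app (q.jpst.obj N'))
    show IsIso (q.jpst.map (q.adjJp.unit.app N' ≫ q.jpls.map δ.hom))
    rw [Functor.map_comp]
    infer_instance
  have hb : IsIso (q.jst.map ((biprod.inr : q.fls.obj N' ⟶ q.jls.obj NU ⊞ q.fls.obj N') ≫ b)) := by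
    have := hq.isIso_bcApp N'
    have := hq.isIso_bcApp (q.jpls.obj (q.gst.obj NU))
    have : IsIso (q.jst.map (q.fls.map k) ≫ q.bcApp (q.jpls.obj (q.gst.obj NU))) := by
      rw [bc_naturality]
      infer_instance
    have : IsIso (q.jst.map (q.fls.map k)) :=
      IsIso.of_isIso_comp_right _ (q.bcApp (q.jpls.obj (q.gst.obj NU)))
    rw [show (biprod.inr : q.fls.obj N' ⟶ q.jls.obj NU ⊞ q.fls.obj N') ≫ b = -(q.fls.map k) from
      biprod.inr_desc _ _, Functor.map_neg]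
    exact ⟨-inv (q.jst.map (q.fls.map k)), by simp, by simp⟩
  have hab : a ≫ b = 0 := comp_distTriang_mor_zero₁₂ _ hT
  have ha₁ : IsIso (q.jst.map (a ≫ biprod.fst)) := by
    let s := inv (q.jst.map ((biprod.inr : q.fls.obj N' ⟶ q.jls.obj NU ⊞ q.fls.obj N') ≫ b)) ≫
      q.jst.map (biprod.inr : q.fls.obj N' ⟶ q.jls.obj NU ⊞ q.fls.obj N')
    have hs : s ≫ q.jst.map b = 𝟙 _ := by
      rw [Category.assoc, ← Functor.map_comp, IsIso.inv_hom_id]
    let T := q.jst.mapTriangle.obj (Triangle.mk a b d)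
    have hTj : T ∈ distTriang R := q.jst.map_distinguished _ hT
    have : Epi T.mor₂ := SplitEpi.epi ⟨s, hs⟩
    have hmono : Mono (q.jst.map a) :=
      Triangle.mono₁ _ hTj ((Triangle.mor₃_eq_zero_iff_epi₂ _ hTj).2 this)
    let y := q.jst.map (biprod.inl : q.jls.obj NU ⟶ q.jls.obj NU ⊞ q.fls.obj N') ≫
      (𝟙 _ - q.jst.map b ≫ s)
    have hy : y ≫ q.jst.map b = 0 := by
      simp only [y, Category.assoc, Preadditive.sub_comp, hs, Category.id_comp, Category.comp_id,
        sub_self, comp_zero]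
    obtain ⟨r, hr⟩ : ∃ r : q.jst.obj (q.jls.obj NU) ⟶ q.jst.obj N, y = r ≫ q.jst.map a :=
      Triangle.coyoneda_exact₂ _ hTj y hy
    have hsfst : s ≫ q.jst.map biprod.fst = 0 := by
      rw [Category.assoc, ← Functor.map_comp, biprod.inr_fst, Functor.map_zero, comp_zero]
    refine ⟨r, ?_, ?_⟩
    · rw [← cancel_mono (q.jst.map a), Category.assoc, ← hr, Category.id_comp]
      have htot : q.jst.map biprod.fst ≫ q.jst.map biprod.inl =
          𝟙 (q.jst.obj (q.jls.obj NU ⊞ q.fls.obj N')) -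
            q.jst.map biprod.snd ≫ q.jst.map biprod.inr := by
        rw [eq_sub_iff_add_eq, ← Functor.map_comp, ← Functor.map_comp, ← Functor.map_add,
          biprod.total, CategoryTheory.Functor.map_id]
      have hinr : q.jst.map biprod.inr ≫ (𝟙 _ - q.jst.map b ≫ s) = 0 := by
        rw [Preadditive.comp_sub, Category.comp_id, ← Category.assoc, ← Functor.map_comp,
          ← Category.assoc, IsIso.hom_inv_id, Category.id_comp, sub_self]
      have hfy : q.jst.map biprod.fst ≫ y = 𝟙 _ - q.jst.map b ≫ s := by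
        rw [← Category.assoc, htot, Preadditive.sub_comp, Category.id_comp, Category.assoc, hinr,
          comp_zero, sub_zero]
      have hjab : q.jst.map a ≫ q.jst.map b = 0 := by
        rw [← Functor.map_comp, hab, Functor.map_zero]
      rw [Functor.map_comp, Category.assoc, hfy, Preadditive.comp_sub, Category.comp_id,
        ← Category.assoc, hjab, zero_comp, sub_zero]
    · rw [Functor.map_comp, ← Category.assoc, ← hr, Category.assoc, Preadditive.sub_comp,
        Category.id_comp, Category.assoc, hsfst, comp_zero, sub_zero, ← Functor.map_comp,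
        biprod.inl_fst, CategoryTheory.Functor.map_id]
  set α := (q.adjJ.homEquiv N NU).symm (a ≫ biprod.fst) with hα
  set β := (q.adjF.homEquiv N N').symm (a ≫ biprod.snd) with hβ
  have hαiso : IsIso α := by
    rw [hα, Adjunction.homEquiv_counit]
    infer_instance
  refine ⟨hαiso, ?_⟩
  have hα' : q.adjJ.unit.app N ≫ q.jls.map α = a ≫ biprod.fst :=
    (Adjunction.homEquiv_unit q.adjJ N NU α).symm.trans (Equiv.apply_symm_apply _ _)
  have hβ' : q.adjF.unit.app N ≫ q.fls.map β = a ≫ biprod.snd :=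
    (Adjunction.homEquiv_unit q.adjF N N' β).symm.trans (Equiv.apply_symm_apply _ _)
  have hrel : q.fst.map (a ≫ biprod.fst) ≫ q.bc2App NU = β ≫ k := by
    apply (q.adjF.homEquiv _ _).injective
    rw [Adjunction.homEquiv_unit, Adjunction.homEquiv_unit]
    let a₁ : N ⟶ q.jls.obj NU := a ≫ biprod.fst
    have ha : a = biprod.lift a₁ (a ≫ biprod.snd) := by ext <;> simp [a₁]
    have hn : q.adjF.unit.app N ≫ q.fls.map (q.fst.map a₁) =
        a₁ ≫ q.adjF.unit.app (q.jls.obj NU) := (q.adjF.unit.naturality a₁).symm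
    have h := hab
    rw [ha, biprod.lift_desc, Preadditive.comp_neg, ← sub_eq_add_neg, sub_eq_zero] at h
    show q.adjF.unit.app N ≫ q.fls.map (q.fst.map a₁ ≫ q.bc2App NU) =
      q.adjF.unit.app N ≫ q.fls.map (β ≫ k)
    rw [q.fls.map_comp, q.fls.map_comp β k, ← Category.assoc, ← Category.assoc, hn, hβ',
      Category.assoc]
    exact h
  let c₃ : D q (q.jst.obj N) ⟶ q.fls.obj (q.jpls.obj (q.gst.obj NU)) :=
    q.fls.map (q.fst.map (q.jls.map α) ≫ q.bc2App NU)
  let m : q.jls.obj (q.jst.obj N) ⊞ q.fls.obj (q.fst.obj N) ⟶ q.jls.obj NU ⊞ q.fls.obj N' :=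
    biprod.map (q.jls.map α) (q.fls.map β)
  obtain ⟨d₀, hd₀⟩ := exists_triangle hq N
  have hm₁ : fstMap q N ≫ m = 𝟙 N ≫ a := by
    ext
    · simp [fstMap, m, hα']
    · simp [fstMap, m, hβ']
  have hm₂ : sndMap q N ≫ c₃ = m ≫ b := by
    ext
    · simp only [sndMap, m, b, c₃, biprod.inl_desc_assoc, biprod.inl_map_assoc, biprod.inl_desc,
        Functor.map_comp]
      rw [← Category.assoc, q.adjF.unit_naturality, Category.assoc]
    · simp only [sndMap, m, b, c₃, biprod.inr_desc_assoc, biprod.inr_map_assoc, biprod.inr_desc,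
        Preadditive.neg_comp, Preadditive.comp_neg, neg_inj, ← Functor.map_comp]
      congr 1
      rw [← Category.assoc, ← Functor.map_comp, hα']
      exact hrel
  obtain ⟨h, hh₁, hh₂⟩ := complete_distinguished_triangle_morphism _ _ hd₀ hT (𝟙 N) m hm₁
  let h' : D q (q.jst.obj N) ⟶ q.fls.obj (q.jpls.obj (q.gst.obj NU)) := h
  have hh : h' = c₃ := by
    apply (cancel_mono (inv (q.fls.map (q.bc2App NU)))).1
    apply hom_ext_D hq
    have h1 : (biprod.inr ≫ sndMap q N) ≫ h' = (biprod.inr ≫ sndMap q N) ≫ c₃ := by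
      rw [Category.assoc, Category.assoc, hm₂]
      exact congrArg (biprod.inr ≫ ·) hh₁
    simp only [sndMap, biprod.inr_desc, Preadditive.neg_comp, neg_inj] at h1
    simp only [← Category.assoc, h1]
  let Φ : Triangle.mk (fstMap q N) (sndMap q N) d₀ ⟶ Triangle.mk a b d :=
    Triangle.homMk _ _ (𝟙 N) m c₃ hm₁ hm₂ (hh ▸ hh₂)
  have hm : IsIso m := isIso₂_of_isIso₁₃ Φ hd₀ hT (inferInstanceAs (IsIso (𝟙 N)))
    (by show IsIso c₃; infer_instance)
  have hFβ : IsIso (q.fls.map β) := by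
    refine ⟨biprod.inr ≫ inv m ≫ biprod.snd, ?_, ?_⟩
    · have h : q.fls.map β ≫ biprod.inr = biprod.inr ≫ m := by simp [m]
      rw [reassoc_of% h, IsIso.hom_inv_id_assoc, biprod.inr_snd]
    · have h : (biprod.snd : _ ⊞ q.fls.obj (q.fst.obj N) ⟶ _) ≫ q.fls.map β = m ≫ biprod.snd := by
        simp [m]
      simp [Category.assoc, h]
  obtain ⟨Z, p, p', hZ⟩ := distinguished_cocone_triangle β
  have hFZ : IsZero (q.fls.obj Z) :=
    Triangle.isZero₃_of_isIso₁ _ (q.fls.map_distinguished _ hZ) hFβ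
  have hjZ : IsZero (q.jpst.obj Z) := by
    refine Triangle.isZero₃_of_isIso₁ _ (q.jpst.map_distinguished _ hZ) ?_
    have hfa : IsIso (q.jpst.map (q.fst.map (a ≫ biprod.fst))) :=
      (NatIso.isIso_map_iff q.e (a ≫ biprod.fst)).1
        (inferInstanceAs (IsIso (q.gst.map (q.jst.map (a ≫ biprod.fst)))))
    have h1 : IsIso (q.jpst.map β ≫ q.jpst.map k) := by
      rw [← Functor.map_comp, ← hrel, Functor.map_comp]
      infer_instance
    exact IsIso.of_isIso_comp_right (q.jpst.map β) (q.jpst.map k)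
  have := hq.isIso_counitF Z hjZ
  exact (Triangle.isZero₃_iff_isIso₁ _ hZ).1
    ((q.fst.map_isZero hFZ).of_iso (asIso (q.adjF.counit.app Z)).symm)

/-- Compactness is local. -/
theorem compact [HasCoproducts.{v} S] [HasCoproducts.{v} S'] [HasCoproducts.{v} R]
    [HasCoproducts.{v} R'] (N : S) (hU : CohDer.IsCompactObject (q.jst.obj N))
    (hX' : CohDer.IsCompactObject (q.fst.obj N))
    (hU' : CohDer.IsCompactObject (q.gst.obj (q.jst.obj N))) : CohDer.IsCompactObject N := by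
  classical
  have : PreservesColimitsOfSize.{v, v} q.jst := q.adjJ.leftAdjoint_preservesColimits
  have : PreservesColimitsOfSize.{v, v} q.fst := q.adjF.leftAdjoint_preservesColimits
  have : PreservesColimitsOfSize.{v, v} (q.jst ⋙ q.gst) :=
    (q.adjJ.comp q.adjG).leftAdjoint_preservesColimits
  apply CompactLib.compact_of_fac
  intro ι X φ
  obtain ⟨S₁, hS₁⟩ := CompactLib.exists_map_cut_eq q.jst X (CompactLib.fac_of_compact hU)
    (q.jst.map φ)
  obtain ⟨S₂, hS₂⟩ := CompactLib.exists_map_cut_eq q.fst X (CompactLib.fac_of_compact hX')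
    (q.fst.map φ)
  have hle : ∀ {T T' : Finset ι} (L : S ⥤ R) (u : q.jst.obj N ⟶ L.obj (∐ X)),
      T ⊆ T' → u ≫ L.map (CompactLib.cut X T) = u → u ≫ L.map (CompactLib.cut X T') = u := by
    intro T T' L u hT hu
    rw [← hu, Category.assoc, ← L.map_comp, CompactLib.cut_cut X hT]
  let U := S₁ ∪ S₂
  let ψ := φ - φ ≫ CompactLib.cut X U
  have hjψ : q.jst.map ψ = 0 := by
    rw [Functor.map_sub, Functor.map_comp, sub_eq_zero]
    exact (hle q.jst _ Finset.subset_union_left hS₁).symm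
  have hfψ : q.fst.map ψ = 0 := by
    have : q.fst.map φ ≫ q.fst.map (CompactLib.cut X U) = q.fst.map φ := by
      rw [← hS₂, Category.assoc, ← Functor.map_comp,
        CompactLib.cut_cut X Finset.subset_union_right]
    rw [Functor.map_sub, Functor.map_comp, this, sub_self]
  obtain ⟨d, hd⟩ := exists_triangle hq (∐ X)
  have hψa : ψ ≫ fstMap q (∐ X) = 0 := by
    have := q.adjJ.right_adjoint_additive
    have := q.adjF.right_adjoint_additive
    ext
    · simp [fstMap, ← q.adjJ.unit_naturality, hjψ]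
    · simp [fstMap, ← q.adjF.unit_naturality, hfψ]
  obtain ⟨h, hh⟩ : ∃ h : N⟦(1 : ℤ)⟧ ⟶ D q (q.jst.obj (∐ X)), ψ⟦(1 : ℤ)⟧' = h ≫ d :=
    Triangle.coyoneda_exact₁ _ hd _ (by
      show _ ≫ (fstMap q (∐ X))⟦(1 : ℤ)⟧' = 0
      rw [← Functor.map_comp, hψa, Functor.map_zero])
  have hK : CompactLib.Fac (q.jpst.obj (q.fst.obj (N⟦(1 : ℤ)⟧))) := by
    refine CompactLib.Fac.of_iso ?_ ((CompactLib.fac_of_compact hU').shift (1 : ℤ))
    exact ((q.gst.commShiftIso (1 : ℤ)).app (q.jst.obj N)).symm ≪≫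
      q.gst.mapIso ((q.jst.commShiftIso (1 : ℤ)).app N).symm ≪≫ q.e.app _
  obtain ⟨V, hV⟩ := CompactLib.exists_map_cut_eq (q.jst ⋙ q.gst) X hK (transpose h)
  have hhV : h ≫ q.fls.map (q.fst.map (q.jls.map (q.jst.map (CompactLib.cut X V)))) = h := by
    apply transpose_injective hq
    rw [transpose_comp hq]
    exact hV
  have hψV : ψ ≫ CompactLib.cut X V = ψ := by
    apply (shiftFunctor S (1 : ℤ)).map_injective
    rw [Functor.map_comp, hh, Category.assoc, naturality hq (CompactLib.cut X V) d d hd hd,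
      reassoc_of% hhV]
  have : φ = φ ≫ CompactLib.cut X U + ψ ≫ CompactLib.cut X V := by
    rw [hψV]
    simp [ψ]
  rw [this]
  exact add_mem (CompactLib.comp_cut_mem X U φ) (CompactLib.comp_cut_mem X V ψ)

end MVLib
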